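import Cfsg.Agent.H780.D4.Stmts

/-!
# S5261, (TOR): the torus of `³D₄(q)` is generated by the tori of the two rank one groups (helper812)
-/

set_option autoImplicit false

namespace Cfsg.Agent.H812.D4t

open Cfsg Cfsg.Agent.H765.D3 Cfsg.Agent.H780.D4
open Cfsg.Agent.Hex.Defs (sh cr nm tr)

universe u

variable {F K : Type u} [Field F] [Field K] [Algebra F K] {φ : K ≃ₐ[F] K} [Cub φ]

omit [Cub φ] in
/-- the parameters determine the automorphism -/
theorem isTor_unique {α β : MulAut (Sy φ)} {s : K} {t : F} {τ : K ≃+* K} {ρ : F ≃+* F} (hα : IsTor α s t τ ρ)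
    (hβ : IsTor β s t τ ρ) : α = β := by
  ext g
  · rw [hα.x1, hβ.x1]
  · rw [hα.x6, hβ.x6]
  · rw [hα.x5, hβ.x5]
  · rw [hα.x3, hβ.x3]
  · rw [hα.x2, hβ.x2]
  · rw [hα.x4, hβ.x4]

/-- products in the torus -/
theorem isTor_mul {α β : MulAut (Sy φ)} {s s' : K} {t t' : F} (hα : IsTor α s t (RingEquiv.refl K) (RingEquiv.refl F))
    (hβ : IsTor β s' t' (RingEquiv.refl K) (RingEquiv.refl F)) :
    IsTor (α * β) (s * s') (t * t') (RingEquiv.refl K) (RingEquiv.refl F) := by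
  refine ⟨mul_ne_zero hα.nes hβ.nes, mul_ne_zero hα.net hβ.net, fun x => rfl, ?_, ?_, ?_, ?_, ?_, ?_⟩
  · intro g
    rw [MulAut.mul_apply, hα.x1, hβ.x1]
    simp only [RingEquiv.refl_apply]
    ring
  · intro g
    rw [MulAut.mul_apply, hα.x6, hβ.x6]
    simp only [RingEquiv.refl_apply]
    ring
  · intro g
    rw [MulAut.mul_apply, hα.x5, hβ.x5]
    simp only [RingEquiv.refl_apply, Algebra.smul_def, map_mul]
    ring
  · intro g
    rw [MulAut.mul_apply, hα.x3, hβ.x3]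
    simp only [RingEquiv.refl_apply, Algebra.smul_def, map_mul, sh_mul]
    ring
  · intro g
    rw [MulAut.mul_apply, hα.x2, hβ.x2]
    simp only [RingEquiv.refl_apply, nm_mul]
    ring
  · intro g
    rw [MulAut.mul_apply, hα.x4, hβ.x4]
    simp only [RingEquiv.refl_apply, nm_mul]
    ring

/-- the arithmetic of the torus -/
theorem exists_ab {p n : ℕ} (h : HypD φ p n) {s : K} {t : F} (hs : s ≠ 0) (ht : t ≠ 0) :
    ∃ (a : K) (b : F), a ≠ 0 ∧ b ≠ 0 ∧ a ^ 2 * (algebraMap F K b)⁻¹ = s ∧ (nm φ a)⁻¹ * b ^ 2 = t := by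
  set b : F := t ^ 2 * nm φ s with hb
  have hN : nm φ s ≠ 0 := fun h => hs ((nm_eq_zero φ).1 h)
  have hb0 : b ≠ 0 := mul_ne_zero (pow_ne_zero 2 ht) hN
  have hb' : algebraMap F K b ≠ 0 := fun h => hb0 ((map_eq_zero _).1 h)
  obtain ⟨a, ha⟩ : ∃ a : K, a ^ 2 = s * algebraMap F K b := by
    obtain ⟨k, hk⟩ := Nat.even_mul_succ_self (p ^ n)
    refine ⟨algebraMap F K t * s ^ (1 + k), ?_⟩
    rw [hb, map_mul, map_pow, coe_nm, h.phi, h.phi, mul_pow, ← pow_mul, ← pow_mul]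
    have h1 : s ^ ((1 + k) * 2) = s * (s * s ^ p ^ n * s ^ (p ^ n * p ^ n)) := by
      rw [show (1 + k) * 2 = 1 + 1 + (k + k) by ring, ← hk, pow_add, pow_add, pow_one,
        show p ^ n * (p ^ n + 1) = p ^ n + p ^ n * p ^ n by ring, pow_add]
      ring
    rw [h1]
    ring
  have ha0 : a ≠ 0 := by
    rintro rfl
    rw [zero_pow two_ne_zero] at ha
    exact mul_ne_zero hs hb' ha.symm
  have key : ∀ a : K, a ^ 2 = s * algebraMap F K b → nm φ a = b ^ 2 / t →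
      ∃ (a : K) (b : F), a ≠ 0 ∧ b ≠ 0 ∧ a ^ 2 * (algebraMap F K b)⁻¹ = s ∧ (nm φ a)⁻¹ * b ^ 2 = t := by
    intro a ha hn
    refine ⟨a, b, ?_, hb0, ?_, ?_⟩
    · rintro rfl
      rw [zero_pow two_ne_zero] at ha
      exact mul_ne_zero hs hb' ha.symm
    · rw [ha, mul_assoc, mul_inv_cancel₀ hb', mul_one]
    · rw [hn]
      field_simp
  have h2 : nm φ a ^ 2 = (b ^ 2 / t) ^ 2 := by
    have h3 : nm φ a ^ 2 = nm φ (a ^ 2) := by rw [pow_two, pow_two, nm_mul]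
    have h4 : nm φ (algebraMap F K b) = b ^ 3 := by
      rw [show algebraMap F K b = b • (1 : K) by rw [Algebra.smul_def, mul_one], nm_smul, nm_one, mul_one]
    rw [h3, ha, nm_mul, h4]
    have h5 : nm φ s = b / t ^ 2 := by
      rw [hb]
      field_simp
    rw [h5]
    field_simp
  rcases sq_eq_sq_iff_eq_or_eq_neg.1 h2 with h3 | h3
  · exact key a ha h3
  · refine key (-a) (by rw [neg_pow_two, ha]) ?_
    rw [nm_neg, h3, neg_neg]

/-- **(TOR)** -/
theorem stTor_of (hG : StGrpD.{u}) : StTor.{u} := by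
  intro F K _ _ _ φ _ p n h D h1 h2 s t α hα
  obtain ⟨a, b, ha, hb, hab, hab'⟩ := exists_ab h hα.nes hα.net
  obtain ⟨-, -, hex, -⟩ := hG h
  have hb' : algebraMap F K b ≠ 0 := fun h => hb ((map_eq_zero _).1 h)
  obtain ⟨α1, hα1⟩ := hex (a ^ 2) (nm φ a)⁻¹ (RingEquiv.refl K) (RingEquiv.refl F) (pow_ne_zero 2 ha)
    (inv_ne_zero fun h => ha ((nm_eq_zero φ).1 h)) (fun x => rfl)
  obtain ⟨α2, hα2⟩ := hex (algebraMap F K b)⁻¹ (b ^ 2) (RingEquiv.refl K) (RingEquiv.refl F) (inv_ne_zero hb')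
    (pow_ne_zero 2 hb) (fun x => rfl)
  have h3 := isTor_mul hα1 hα2
  rw [hab, hab'] at h3
  rw [isTor_unique hα h3]
  exact D.mul_mem (h1 a α1 ha hα1) (h2 b α2 hb hα2)

end Cfsg.Agent.H812.D4t
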